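import Mathlib
import Cfsg.Prelude.Def_GeometricClasses
import Cfsg.Agent.Lib.Helper94.Transfer
import Cfsg.Agent.Lib.Helper94.Symp

set_option autoImplicit false

namespace Cfsg.Agent.Lib.Helper94

open LinearMap (BilinForm)
open Module Matrix

theorem isMaximalIn_of_core {G : Type*} [Group G] (K H : Subgroup G) (hle : H ≤ K)
    (hne : ∃ k ∈ K, k ∉ H)
    (hcore : ∀ M : Subgroup G, H ≤ M → M ≤ K → ∀ g0 ∈ M, g0 ∉ H → K ≤ M) :
    Cfsg.Geo.IsMaximalIn K H := by
  refine ⟨lt_of_le_of_ne hle ?_, ?_⟩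
  · rintro rfl
    obtain ⟨k, hk, hk'⟩ := hne
    exact hk' hk
  · intro M hHM hMK
    by_cases h : M = H
    · exact Or.inl h
    · right
      have : ∃ g0 ∈ M, g0 ∉ H := by
        by_contra hcon
        push Not at hcon
        exact h (le_antisymm hcon hHM)
      obtain ⟨g0, hg0, hg0'⟩ := this
      exact le_antisymm hMK (hcore M hHM hMK g0 hg0 hg0')

variable {F : Type*} [Field F]

/-- the standard symplectic form as a bilinear form -/
noncomputable def sympB (m : ℕ) (F : Type*) [Field F] : BilinForm F (Fin m ⊕ Fin m → F) :=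
  Matrix.toBilin' (Matrix.J (Fin m) F)

lemma sympB_apply (m : ℕ) (u v : Fin m ⊕ Fin m → F) : sympB m F u v = Cfsg.sympForm m F u v := by
  simp [sympB, Cfsg.sympForm, Matrix.toBilin'_apply']

lemma sympB_isAlt (m : ℕ) : (sympB m F).IsAlt := by
  intro v
  change sympB m F v v = 0
  rw [sympB_apply, Cfsg.sympForm, Matrix.J, dotProduct, Fintype.sum_sum_type]
  simp only [Matrix.mulVec, dotProduct, Fintype.sum_sum_type, Matrix.fromBlocks_apply₁₁,
    Matrix.fromBlocks_apply₁₂, Matrix.fromBlocks_apply₂₁, Matrix.fromBlocks_apply₂₂, Matrix.zero_apply,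
    zero_mul, Finset.sum_const_zero, zero_add, add_zero, Matrix.neg_apply, Matrix.one_apply]
  simp [mul_comm]

lemma sympB_nondegenerate (m : ℕ) : (sympB m F).Nondegenerate := by
  unfold sympB
  apply Matrix.Nondegenerate.toBilin'
  apply Matrix.nondegenerate_of_det_ne_zero
  exact (Matrix.isUnit_det_J (Fin m) F).ne_zero

lemma mem_spGL_iff (m : ℕ) (g : Matrix.GeneralLinearGroup (Fin m ⊕ Fin m) F) :
    g ∈ Cfsg.spGL m F ↔ IsIsom (sympB m F) (glEquiv _ F g) := by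
  unfold IsIsom Cfsg.spGL Cfsg.preserving
  simp only [sympB_apply, glEquiv_apply]
  rfl

lemma mem_subspaceStabilizer_iff {ι : Type} [Fintype ι] [DecidableEq ι]
    (g : Matrix.GeneralLinearGroup ι F) (W : Submodule F (ι → F)) :
    g ∈ Cfsg.Geo.subspaceStabilizer W ↔ ∀ w ∈ W, glEquiv ι F g w ∈ W := by
  constructor
  · intro h w hw
    rw [glEquiv_apply]
    exact (h w).1 hw
  · intro h v
    have := mem_iff_of_forall_mem (glEquiv ι F g) W h v
    rw [glEquiv_apply] at this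
    exact this

theorem sp_maximal_of_core (m : ℕ) (S : Subgroup (Matrix.GeneralLinearGroup (Fin m ⊕ Fin m) F))
    (stab : ((Fin m ⊕ Fin m → F) ≃ₗ[F] (Fin m ⊕ Fin m → F)) → Prop)
    (hS : ∀ g, g ∈ S ↔ stab (glEquiv _ F g))
    (hne : ∃ φ, IsIsom (sympB m F) φ ∧ ¬ stab φ)
    (hcore : ∀ G : Subgroup ((Fin m ⊕ Fin m → F) ≃ₗ[F] (Fin m ⊕ Fin m → F)),
      (∀ φ, IsIsom (sympB m F) φ → stab φ → φ ∈ G) → ∀ φ0 ∈ G, IsIsom (sympB m F) φ0 → ¬ stab φ0 →
      ∀ φ, IsIsom (sympB m F) φ → φ ∈ G) :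
    Cfsg.Geo.IsMaximalIn (Cfsg.spGL m F) (S ⊓ Cfsg.spGL m F) := by
  refine isMaximalIn_of_core _ _ inf_le_right ?_ ?_
  · obtain ⟨φ, hφI, hφS⟩ := hne
    refine ⟨(glEquiv _ F).symm φ, ?_, ?_⟩
    · rw [mem_spGL_iff, MulEquiv.apply_symm_apply]; exact hφI
    · intro h
      have := (hS _).1 h.1
      rw [MulEquiv.apply_symm_apply] at this
      exact hφS this
  · intro M hHM hMK g0 hg0 hg0H k hk
    have key := hcore (M.map (glEquiv _ F).toMonoidHom) ?_ (glEquiv _ F g0) ⟨g0, hg0, rfl⟩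
      ((mem_spGL_iff m g0).1 (hMK hg0)) ?_ (glEquiv _ F k) ((mem_spGL_iff m k).1 hk)
    · obtain ⟨k', hk', hkk⟩ := key
      have : k' = k := (glEquiv _ F).injective hkk
      exact this ▸ hk'
    · intro φ hφI hφS
      refine ⟨(glEquiv _ F).symm φ, hHM (Subgroup.mem_inf.2 ⟨?_, ?_⟩), ?_⟩
      · rw [hS, MulEquiv.apply_symm_apply]; exact hφS
      · rw [mem_spGL_iff, MulEquiv.apply_symm_apply]; exact hφI
      · exact MulEquiv.apply_symm_apply _ _
    · intro h
      exact hg0H ⟨(hS _).2 h, hMK hg0⟩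

end Cfsg.Agent.Lib.Helper94
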