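import Mathlib
import Cfsg.Agent.Lib.Helper94.Transfer

set_option autoImplicit false

namespace Cfsg.Agent.Lib.Helper94

open Module Matrix

variable {ι : Type} [Fintype ι] [DecidableEq ι] {F : Type*} [Field F]

/-- elementary transvection as a linear equivalence: `x ↦ x + (c * x j) • e_i`. -/
noncomputable def elemTv {i j : ι} (hij : i ≠ j) (c : F) : (ι → F) ≃ₗ[F] (ι → F) :=
  LinearEquiv.transvection (f := c • (LinearMap.proj j : (ι → F) →ₗ[F] F)) (v := Pi.single i 1)
    (by simp [Pi.single_apply, hij.symm])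

lemma elemTv_apply {i j : ι} (hij : i ≠ j) (c : F) (x : ι → F) (k : ι) :
    elemTv hij c x k = x k + c * x j * (if k = i then 1 else 0) := by
  simp [elemTv, LinearMap.transvection.apply, Pi.single_apply]

lemma glEquiv_transvection {i j : ι} (hij : i ≠ j) (c : F) :
    glEquiv ι F (Matrix.SpecialLinearGroup.toGL (Matrix.SpecialLinearGroup.transvection hij c)) =
      elemTv hij c := by
  ext x k
  rw [glEquiv_apply, elemTv_apply]
  simp only [Matrix.SpecialLinearGroup.coe_GL_coe_matrix, Matrix.SpecialLinearGroup.transvection_coe,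
    Matrix.add_mulVec, Matrix.one_mulVec, Pi.add_apply]
  congr 1
  simp only [Matrix.mulVec, dotProduct, Matrix.single_apply]
  by_cases hk : k = i
  · subst hk
    simp
  · have : ¬ i = k := fun h => hk h.symm
    simp [hk, this]

lemma glEquiv_diag2n {i j : ι} (hij : i ≠ j) (a : F) (ha : a ≠ 0) :
    glEquiv ι F (Matrix.SpecialLinearGroup.toGL (Matrix.SpecialLinearGroup.diag2n hij a ha)) =
      elemTv hij a * elemTv hij.symm (-a⁻¹) * elemTv hij a * elemTv hij (-1) * elemTv hij.symm 1 *
        elemTv hij (-1) := by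
  ext x k
  rw [glEquiv_apply]
  simp only [Matrix.SpecialLinearGroup.coe_GL_coe_matrix, Matrix.SpecialLinearGroup.diag2n_coe,
    Matrix.mulVec_diagonal, LinearEquiv.mul_apply, elemTv_apply]
  by_cases hk : k = i
  · subst hk
    simp [hij, hij.symm]
    field_simp
    ring
  · by_cases hk2 : k = j
    · subst hk2
      simp [hij, hij.symm, hk]
      field_simp
      ring
    · simp [hk, hk2]

/-- a subgroup containing all transvections contains all elements of determinant one. -/
theorem mem_of_det_eq_one [Nontrivial ι] (G : Subgroup ((ι → F) ≃ₗ[F] (ι → F)))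
    (hG : ∀ (f : Dual F (ι → F)) (v : ι → F) (h : f v = 0), LinearEquiv.transvection h ∈ G)
    (g : Matrix.GeneralLinearGroup ι F) (hg : (g : Matrix ι ι F).det = 1) : glEquiv ι F g ∈ G := by
  have hel : ∀ (i j : ι) (hij : i ≠ j) (c : F), elemTv hij c ∈ G := fun i j hij c => hG _ _ _
  have key : ∀ A : Matrix.SpecialLinearGroup ι F, glEquiv ι F (Matrix.SpecialLinearGroup.toGL A) ∈ G := by
    intro A
    refine Matrix.SpecialLinearGroup.diagonal_transvection_induction'
      (fun A => glEquiv ι F (Matrix.SpecialLinearGroup.toGL A) ∈ G) A ?_ ?_ ?_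
    · intro i j hij c hc
      rw [glEquiv_diag2n]
      exact G.mul_mem (G.mul_mem (G.mul_mem (G.mul_mem (G.mul_mem (hel _ _ _ _) (hel _ _ _ _))
        (hel _ _ _ _)) (hel _ _ _ _)) (hel _ _ _ _)) (hel _ _ _ _)
    · intro i j hij a
      rw [glEquiv_transvection]
      exact hel _ _ _ _
    · intro A B hA hB
      simp only [map_mul]
      exact G.mul_mem hA hB
  have : g = Matrix.SpecialLinearGroup.toGL ⟨(g : Matrix ι ι F), hg⟩ := by
    apply Units.ext
    rfl
  rw [this]
  exact key _

end Cfsg.Agent.Lib.Helper94
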