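import Mathlib
import Cfsg.Agent.Lib.Helper94.Symp

set_option autoImplicit false

namespace Cfsg.Agent.Lib.Helper94

open LinearMap (BilinForm)
open Module

variable {F V : Type*} [Field F] [AddCommGroup V] [Module F V]

lemma mem_orth {B : BilinForm F V} {W : Submodule F V} {x : V} :
    x ∈ B.orthogonal W ↔ ∀ w ∈ W, B w x = 0 := LinearMap.BilinForm.mem_orthogonal_iff

lemma mem_orth' {B : BilinForm F V} (hA : B.IsAlt) {W : Submodule F V} {x : V} :
    x ∈ B.orthogonal W ↔ ∀ w ∈ W, B x w = 0 := by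
  rw [mem_orth]
  constructor
  · intro h w hw; rw [alt_swap hA, h w hw, neg_zero]
  · intro h w hw; rw [alt_swap hA, h w hw, neg_zero]

/-- the Siegel-like element `x ↦ x + B x a • w + B x w • a` for `B w a = 0`. -/
lemma exists_siegel {B : BilinForm F V} (hA : B.IsAlt) (a w : V) (haw : B w a = 0) :
    ∃ h : V ≃ₗ[F] V, IsIsom B h ∧ ∀ x, h x = x + B x a • w + B x w • a := by
  refine ⟨st B hA (a + w) 1 * st B hA a (-1) * st B hA w (-1),
    ((st_isIsom _ _ _ _).mul (st_isIsom _ _ _ _)).mul (st_isIsom _ _ _ _), fun x => ?_⟩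
  have hwa : B a w = 0 := by rw [alt_swap hA, haw, neg_zero]
  simp only [LinearEquiv.mul_apply, st_apply, map_add, map_smul, LinearMap.add_apply,
    LinearMap.smul_apply, smul_eq_mul, hA a, hA w, haw, hwa]
  module

theorem core_parabolic [FiniteDimensional F V] {B : BilinForm F V} (hA : B.IsAlt) (hN : B.Nondegenerate)
    (W : Submodule F V) (hW : ∀ u ∈ W, ∀ v ∈ W, B u v = 0)
    (G : Subgroup (V ≃ₗ[F] V))
    (hP : ∀ g, IsIsom B g → (∀ w ∈ W, g w ∈ W) → g ∈ G)
    (g0 : V ≃ₗ[F] V) (hg0 : g0 ∈ G) (hg0I : IsIsom B g0) (hg0W : ¬ ∀ w ∈ W, g0 w ∈ W) :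
    ∀ g, IsIsom B g → g ∈ G := by
  set X := tvSet B hA G with hX
  set Wp := B.orthogonal W with hWp
  have h1 : ∀ v ∈ Wp, v ∈ X := by
    intro v hv c
    refine hP _ (st_isIsom _ _ _ _) fun w hw => ?_
    rw [st_apply, mem_orth.1 hv w hw, mul_zero, zero_smul, add_zero]
    exact hw
  have hWWp : W ≤ Wp := fun w hw => mem_orth.2 fun n hn => hW n hn w hw
  obtain ⟨u, huX, huW⟩ : ∃ u ∈ X, u ∉ Wp := by
    by_contra hcon
    push Not at hcon
    exact hg0W (stab_of_stab_orthogonal hA hN g0 hg0I W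
      fun w hw => hcon _ (tvSet_map (h1 w hw) hg0 hg0I))
  have hnp : ∀ x, x ∉ Wp → ∃ w ∈ W, B x w ≠ 0 := by
    intro x hx
    by_contra hcon
    push Not at hcon
    exact hx ((mem_orth' hA).2 hcon)
  have h3 : ∀ (X' : Submodule F V), Wp ≤ X' → (∀ y ∈ X', y ∈ X) → ∀ u ∈ X, ∀ y ∈ X', ∀ s : F,
      y + s • u ∈ X := by
    intro X' hX'1 hX'2 u hu y hy s
    by_cases huW : u ∈ Wp
    · exact hX'2 _ (X'.add_mem hy (X'.smul_mem s (hX'1 huW)))
    by_cases hxW : y + s • u ∈ Wp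
    · exact h1 _ hxW
    by_cases hyu : B y u = 0
    · obtain ⟨w, hw, hw1, hw2⟩ := exists_both_ne_zero W (B (y + s • u)) (B u) (hnp _ hxW) (hnp _ huW)
      have hyw : y + w ∈ X' := X'.add_mem hy (hX'1 (hWWp hw))
      have e1 : B u (y + w) ≠ 0 := by
        rw [map_add, alt_swap hA u y, hyu, neg_zero, zero_add]; exact hw2
      have e2 : (y + w) + s • u ∈ X := tvSet_add_smul hu (hX'2 _ hyw) e1 s
      have e3 : B ((y + w) + s • u) w ≠ 0 := by
        have : (y + w) + s • u = (y + s • u) + w := by abel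
        rw [this, map_add, LinearMap.add_apply, hA w, add_zero]; exact hw1
      have e4 := tvSet_sub e2 (h1 w (hWWp hw)) e3
      have : (y + w) + s • u - w = y + s • u := by abel
      rwa [this] at e4
    · refine tvSet_add_smul hu (hX'2 y hy) ?_ s
      rw [alt_swap hA]; simpa using hyu
  have h4 : ∀ a b, a ∈ X → b ∈ X → a + b ∈ X := by
    intro a b ha hb
    have hX1 : ∀ y ∈ Wp ⊔ Submodule.span F {a}, y ∈ X := by
      intro y hy
      obtain ⟨p, hp, z, hz, rfl⟩ := Submodule.mem_sup.1 hy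
      obtain ⟨s, rfl⟩ := Submodule.mem_span_singleton.1 hz
      exact h3 Wp le_rfl h1 a ha p hp s
    have := h3 _ le_sup_left hX1 b hb a
      (Submodule.mem_sup_right (Submodule.mem_span_singleton_self a)) 1
    rwa [one_smul] at this
  let XS : Submodule F V :=
    { carrier := X
      add_mem' := fun {a b} ha hb => h4 a b ha hb
      zero_mem' := tvSet_zero
      smul_mem' := fun c x hx => tvSet_smul hx c }
  have hXS : ∀ x, x ∈ XS ↔ x ∈ X := fun x => Iff.rfl
  set R := B.orthogonal XS with hR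
  have hRW : R ≤ W := by
    have h : B.orthogonal XS ≤ B.orthogonal Wp :=
      LinearMap.BilinForm.orthogonal_le (fun x hx => h1 x hx)
    rwa [hWp, LinearMap.BilinForm.orthogonal_orthogonal hN hA.isRefl] at h
  have hRinv : ∀ h ∈ G, IsIsom B h → ∀ r ∈ R, h r ∈ R := by
    intro h hh hhI r hr
    rw [hR, mem_orth]
    intro x hx
    have hx' : h⁻¹ x ∈ XS := tvSet_map hx (G.inv_mem hh) hhI.inv
    rw [← apply_inv_self' h x, hhI]
    exact mem_orth.1 hr _ hx'
  have hRbot : R = ⊥ := by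
    by_contra hne
    obtain ⟨r, hr, hr0⟩ := Submodule.exists_mem_ne_zero_of_ne_bot hne
    have hWR : W ≤ R := by
      intro w hw
      by_cases hrw : r ∈ Submodule.span F {w}
      · obtain ⟨c, rfl⟩ := Submodule.mem_span_singleton.1 hrw
        have hc : c ≠ 0 := by
          rintro rfl; simp at hr0
        exact (Submodule.smul_mem_iff _ hc).1 hr
      · obtain ⟨a, ha, hra⟩ := exists_perp_ne hA hN _ hrw
        have hwa : B w a = 0 := mem_orth.1 ha w (Submodule.mem_span_singleton_self w)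
        obtain ⟨h, hhI, hh⟩ := exists_siegel hA a w hwa
        have hhG : h ∈ G := by
          refine hP h hhI fun x hx => ?_
          rw [hh, hW x hx w hw, zero_smul, add_zero]
          exact W.add_mem hx (W.smul_mem _ hw)
        have h5 := hRinv h hhG hhI r hr
        rw [hh, hW r (hRW hr) w hw, zero_smul, add_zero] at h5
        have h6 : B r a • w ∈ R := by
          have := R.sub_mem h5 hr
          rwa [add_sub_cancel_left] at this
        exact (Submodule.smul_mem_iff _ hra).1 h6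
    apply huW
    rw [hWp, mem_orth' hA]
    intro w hw
    exact mem_orth.1 (hWR hw) u huX
  have hXStop : XS = ⊤ := by
    rw [← LinearMap.BilinForm.orthogonal_orthogonal hN hA.isRefl XS, ← hR, hRbot,
      LinearMap.BilinForm.orthogonal_bot]
  refine mem_of_isIsom hA hN G fun v c => ?_
  have : v ∈ XS := hXStop ▸ Submodule.mem_top
  exact this c

lemma exists_isIsom_not_stab_of_singular {B : BilinForm F V} (hA : B.IsAlt) (hN : B.Nondegenerate)
    (W : Submodule F V) (hW0 : W ≠ ⊥) (hW : ∀ u ∈ W, ∀ v ∈ W, B u v = 0) :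
    ∃ g, IsIsom B g ∧ ¬ ∀ w ∈ W, g w ∈ W := by
  obtain ⟨w, hw, hw0⟩ := Submodule.exists_mem_ne_zero_of_ne_bot hW0
  obtain ⟨u, hu⟩ : ∃ u, B w u ≠ 0 := by
    by_contra hcon
    push Not at hcon
    exact hw0 (hN.1 w hcon)
  refine ⟨st B hA u 1, st_isIsom _ _ _ _, fun hcon => ?_⟩
  have h1 := hcon w hw
  rw [st_apply, one_mul] at h1
  have h2 : B w u • u ∈ W := by
    have := W.sub_mem h1 hw
    rwa [add_sub_cancel_left] at this
  exact hu (hW w hw u ((Submodule.smul_mem_iff _ hu).1 h2))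

lemma le_or_le_of_forall_mem_or (S W W' : Submodule F V) (h : ∀ x ∈ S, x ∈ W ∨ x ∈ W') :
    S ≤ W ∨ S ≤ W' := by
  by_contra hcon
  push Not at hcon
  obtain ⟨h1, h2⟩ := hcon
  obtain ⟨s1, hs1, hs1'⟩ := SetLike.not_le_iff_exists.1 h1
  obtain ⟨s2, hs2, hs2'⟩ := SetLike.not_le_iff_exists.1 h2
  have hs1W' : s1 ∈ W' := (h s1 hs1).resolve_left hs1'
  have hs2W : s2 ∈ W := (h s2 hs2).resolve_right hs2'
  rcases h (s1 + s2) (S.add_mem hs1 hs2) with h3 | h3
  · exact hs1' (by simpa using W.sub_mem h3 hs2W)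
  · exact hs2' (by simpa using W'.sub_mem h3 hs1W')

theorem core_nondeg [FiniteDimensional F V] {B : BilinForm F V} (hA : B.IsAlt) (hN : B.Nondegenerate)
    (W : Submodule F V) (hW : ∀ w ∈ W, w ≠ 0 → ∃ x ∈ W, B x w ≠ 0)
    (hdim : 2 * finrank F W < finrank F V)
    (G : Subgroup (V ≃ₗ[F] V))
    (hP : ∀ g, IsIsom B g → (∀ w ∈ W, g w ∈ W) → g ∈ G)
    (g0 : V ≃ₗ[F] V) (hg0 : g0 ∈ G) (hg0I : IsIsom B g0) (hg0W : ¬ ∀ w ∈ W, g0 w ∈ W) :
    ∀ g, IsIsom B g → g ∈ G := by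
  set X := tvSet B hA G with hX
  set Wp := B.orthogonal W with hWp
  have hWpp : B.orthogonal Wp = W := LinearMap.BilinForm.orthogonal_orthogonal hN hA.isRefl W
  have hdisj : ∀ x, x ∈ W → x ∈ Wp → x = 0 := by
    intro x hx hx'
    by_contra hx0
    obtain ⟨y, hy, hyx⟩ := hW x hx hx0
    exact hyx (mem_orth.1 hx' y hy)
  have hcompl : IsCompl W Wp := by
    rw [hWp, LinearMap.BilinForm.isCompl_orthogonal_iff_disjoint hA.isRefl, Submodule.disjoint_def]
    exact hdisj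
  have h1 : ∀ v ∈ W, v ∈ X := by
    intro v hv c
    refine hP _ (st_isIsom _ _ _ _) fun w hw => ?_
    rw [st_apply]
    exact W.add_mem hw (W.smul_mem _ hv)
  have h1' : ∀ v ∈ Wp, v ∈ X := by
    intro v hv c
    refine hP _ (st_isIsom _ _ _ _) fun w hw => ?_
    rw [st_apply, mem_orth.1 hv w hw, mul_zero, zero_smul, add_zero]
    exact hw
  obtain ⟨x, hxX, hxW, hxWp⟩ : ∃ x ∈ X, x ∉ W ∧ x ∉ Wp := by
    by_contra hcon
    push Not at hcon
    have h2 : ∀ y ∈ Wp.map (g0 : V →ₗ[F] V), y ∈ W ∨ y ∈ Wp := by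
      rintro _ ⟨z, hz, rfl⟩
      by_cases h : g0 z ∈ W
      · exact Or.inl h
      · exact Or.inr (hcon _ (tvSet_map (h1' z hz) hg0 hg0I) h)
    rcases le_or_le_of_forall_mem_or _ _ _ h2 with h3 | h3
    · have h4 := Submodule.finrank_mono h3
      rw [LinearEquiv.finrank_map_eq g0 Wp, hWp, LinearMap.BilinForm.finrank_orthogonal hN] at h4
      omega
    · exact hg0W (stab_of_stab_orthogonal hA hN g0 hg0I W
        fun w hw => h3 (Submodule.mem_map_of_mem hw))
  obtain ⟨a, ha, b, hb, rfl⟩ : ∃ a ∈ W, ∃ b ∈ Wp, a + b = x := by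
    have : x ∈ W ⊔ Wp := hcompl.sup_eq_top ▸ Submodule.mem_top
    exact Submodule.mem_sup.1 this
  have ha0 : a ≠ 0 := by
    rintro rfl; rw [zero_add] at hxWp; exact hxWp hb
  have hb0 : b ≠ 0 := by
    rintro rfl; rw [add_zero] at hxW; exact hxW ha
  have h5 : ∀ a' ∈ W, ∀ b' ∈ Wp, a' ≠ 0 → b' ≠ 0 → a' + b' ∈ X := by
    intro a' ha' b' hb' ha'0 hb'0
    obtain ⟨t1, ht1G, ht1I, ht1U, ht1⟩ := exists_move hA hN G Wp
      (fun v hv c => h1 v (hWpp ▸ hv) c) a' a (fun h => ha'0 (hdisj _ ha' h)) (fun h => ha0 (hdisj _ ha h))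
      (fun u hu => by rw [(mem_orth' hA).1 hu a' ha', (mem_orth' hA).1 hu a ha])
    obtain ⟨t2, ht2G, ht2I, ht2U, ht2⟩ := exists_move hA hN G W
      (fun v hv c => h1' v hv c) b' b (fun h => hb'0 (hdisj _ h hb')) (fun h => hb0 (hdisj _ h hb))
      (fun u hu => by rw [mem_orth.1 hb' u hu, mem_orth.1 hb u hu])
    have h6 := tvSet_map (tvSet_map hxX ht1G ht1I) ht2G ht2I
    rwa [map_add, ht1, ht1U b hb, map_add, ht2, ht2U a' ha'] at h6
  refine mem_of_isIsom hA hN G fun v c => ?_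
  obtain ⟨a', ha', b', hb', rfl⟩ : ∃ a ∈ W, ∃ b ∈ Wp, a + b = v := by
    have : v ∈ W ⊔ Wp := hcompl.sup_eq_top ▸ Submodule.mem_top
    exact Submodule.mem_sup.1 this
  by_cases ha'0 : a' = 0
  · rw [ha'0, zero_add]; exact h1' b' hb' c
  by_cases hb'0 : b' = 0
  · rw [hb'0, add_zero]; exact h1 a' ha' c
  exact h5 a' ha' b' hb' ha'0 hb'0 c

lemma exists_isIsom_not_stab_of_nondeg [FiniteDimensional F V] {B : BilinForm F V} (hA : B.IsAlt)
    (hN : B.Nondegenerate)
    (W : Submodule F V) (hW0 : W ≠ ⊥) (hW : ∀ w ∈ W, w ≠ 0 → ∃ x ∈ W, B x w ≠ 0)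
    (hdim : 2 * finrank F W < finrank F V) :
    ∃ g, IsIsom B g ∧ ¬ ∀ w ∈ W, g w ∈ W := by
  obtain ⟨a, ha, ha0⟩ := Submodule.exists_mem_ne_zero_of_ne_bot hW0
  have hWp0 : B.orthogonal W ≠ ⊥ := by
    intro h
    have h2 := LinearMap.BilinForm.finrank_orthogonal hN W
    rw [h, finrank_bot] at h2
    omega
  obtain ⟨b, hb, hb0⟩ := Submodule.exists_mem_ne_zero_of_ne_bot hWp0
  obtain ⟨w, hw, hwa⟩ := hW a ha ha0
  refine ⟨st B hA (a + b) 1, st_isIsom _ _ _ _, fun hcon => ?_⟩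
  have h1 := hcon w hw
  rw [st_apply, one_mul, map_add, mem_orth.1 hb w hw, add_zero] at h1
  have h2 : B w a • (a + b) ∈ W := by
    have := W.sub_mem h1 hw
    rwa [add_sub_cancel_left] at this
  have h3 : a + b ∈ W := (Submodule.smul_mem_iff _ hwa).1 h2
  have h4 : b ∈ W := by
    have := W.sub_mem h3 ha
    rwa [add_sub_cancel_left] at this
  obtain ⟨y, hy, hyb⟩ := hW b h4 hb0
  exact hyb (mem_orth.1 hb y hy)

end Cfsg.Agent.Lib.Helper94
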