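import Mathlib
import Cfsg.Agent.Lib.Helper94.Symp
import Cfsg.Agent.Lib.Helper94.SympMax

set_option autoImplicit false

namespace Cfsg.Agent.Lib.Helper94

open LinearMap (BilinForm)
open Module

variable {F V : Type*} [Field F] [AddCommGroup V] [Module F V]

/-- `g` is a similarity of `B`. -/
def IsSimil (B : BilinForm F V) (g : V ≃ₗ[F] V) : Prop :=
  ∃ c : F, c ≠ 0 ∧ ∀ u v, B (g u) (g v) = c * B u v

lemma exists_ne_of_ne_zero {B : BilinForm F V} (hN : B.Nondegenerate) {u : V} (hu : u ≠ 0) :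
    ∃ x, B u x ≠ 0 := by
  by_contra hcon
  push Not at hcon
  exact hu (hN.1 u hcon)

lemma isSimil_of_preserves_ortho {B : BilinForm F V} (hA : B.IsAlt) (hN : B.Nondegenerate)
    (g : V ≃ₗ[F] V) (h : ∀ v w, B v w = 0 → B (g v) (g w) = 0) : IsSimil B g := by
  by_cases hV : ∀ x : V, x = 0
  · refine ⟨1, one_ne_zero, fun u v => ?_⟩
    rw [hV u]; simp
  push Not at hV
  obtain ⟨u0, hu0⟩ := hV
  have key : ∀ u, u ≠ 0 → ∃ c, ∀ y, B (g u) (g y) = c * B u y := by
    intro u hu
    obtain ⟨x, hx⟩ := exists_ne_of_ne_zero hN hu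
    refine ⟨B (g u) (g x) / B u x, fun y => ?_⟩
    have h1 : B u (y - (B u y / B u x) • x) = 0 := by
      rw [map_sub, map_smul, smul_eq_mul, div_mul_cancel₀ _ hx, sub_self]
    have h2 := h _ _ h1
    rw [map_sub, map_smul, map_sub, map_smul, smul_eq_mul, sub_eq_zero] at h2
    rw [h2]; field_simp
  choose c hc using key
  have hcc : ∀ u y (hu : u ≠ 0) (hy : y ≠ 0), B u y ≠ 0 → c u hu = c y hy := by
    intro u y hu hy huy
    have h1 := hc u hu y
    have h2 := hc y hy u
    rw [alt_swap hA, h2, alt_swap hA y u] at h1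
    have h3 : c y hy * B u y = c u hu * B u y := by linear_combination h1
    exact (mul_right_cancel₀ huy h3).symm
  have hcc' : ∀ u (hu : u ≠ 0), c u hu = c u0 hu0 := by
    intro u hu
    obtain ⟨y, -, hy1, hy2⟩ := exists_both_ne_zero ⊤ (B u) (B u0)
      (by obtain ⟨x, hx⟩ := exists_ne_of_ne_zero hN hu; exact ⟨x, trivial, hx⟩)
      (by obtain ⟨x, hx⟩ := exists_ne_of_ne_zero hN hu0; exact ⟨x, trivial, hx⟩)
    have hy : y ≠ 0 := by rintro rfl; simp at hy1
    rw [hcc u y hu hy hy1, hcc u0 y hu0 hy hy2]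
  refine ⟨c u0 hu0, ?_, ?_⟩
  · intro hc0
    have hgu : g u0 ≠ 0 := by simpa using hu0
    obtain ⟨z, hz⟩ := exists_ne_of_ne_zero hN hgu
    apply hz
    rw [← apply_inv_self' g z, hc u0 hu0, hc0, zero_mul]
  · intro u v
    by_cases hu : u = 0
    · subst hu; simp
    · rw [hc u hu, hcc' u hu]

lemma exists_repr [FiniteDimensional F V] {B : BilinForm F V} (hA : B.IsAlt) (hN : B.Nondegenerate)
    (φ : Dual F V) : ∃ b, ∀ x, φ x = B x b := by
  refine ⟨-(B.toDual hN).symm φ, fun x => ?_⟩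
  rw [map_neg, ← alt_swap hA, LinearMap.BilinForm.apply_toDual_symm_apply]

lemma tv_eq_one_of_left (B : BilinForm F V) (b : V) (h : B 0 b = 0) : tv B 0 b h = 1 := by
  ext x; simp [tv_apply]

lemma tv_smul_eq_st (B : BilinForm F V) (hA : B.IsAlt) (a : V) (c : F) (h : B a (c • a) = 0) :
    tv B a (c • a) h = st B hA a c := by
  ext x; simp [tv_apply, st_apply]

/-- transitivity on independent orthogonal pairs -/
lemma exists_move_pair [FiniteDimensional F V] {B : BilinForm F V} (hA : B.IsAlt) (hN : B.Nondegenerate)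
    (G : Subgroup (V ≃ₗ[F] V)) (hG : ∀ v c, st B hA v c ∈ G) (a b a' b' : V)
    (hab : B a b = 0) (hab' : B a' b' = 0) (ha : a ≠ 0) (ha' : a' ≠ 0)
    (hb : b ∉ Submodule.span F {a}) (hb' : b' ∉ Submodule.span F {a'}) :
    ∃ t ∈ G, IsIsom B t ∧ t a = a' ∧ t b = b' := by
  obtain ⟨t1, ht1G, ht1I, -, ht1⟩ := exists_move hA hN G ⊥ (fun v _ c => hG v c) a' a
    (by simpa using ha') (by simpa using ha) (by simp)
  have hb1 : t1 b ∉ Submodule.span F {a'} := by
    intro hmem
    obtain ⟨r, hr⟩ := Submodule.mem_span_singleton.1 hmem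
    apply hb
    rw [Submodule.mem_span_singleton]
    refine ⟨r, t1.injective ?_⟩
    rw [map_smul, ht1, hr]
  obtain ⟨t2, ht2G, ht2I, ht2U, ht2⟩ := exists_move hA hN G (Submodule.span F {a'})
    (fun v _ c => hG v c) b' (t1 b) hb' hb1 (by
      intro u hu
      obtain ⟨r, rfl⟩ := Submodule.mem_span_singleton.1 hu
      rw [map_smul, LinearMap.smul_apply, LinearMap.smul_apply, hab', ← ht1, ht1I, hab])
  refine ⟨t2 * t1, G.mul_mem ht2G ht1G, ht2I.mul ht1I, ?_, ?_⟩
  · rw [LinearEquiv.mul_apply, ht1, ht2U _ (Submodule.mem_span_singleton_self a')]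
  · rw [LinearEquiv.mul_apply, ht2]

theorem core_SL_tv [FiniteDimensional F V] {B : BilinForm F V} (hA : B.IsAlt) (hN : B.Nondegenerate)
    (G : Subgroup (V ≃ₗ[F] V)) (hG : ∀ v c, st B hA v c ∈ G) (g0 : V ≃ₗ[F] V) (hg0 : g0 ∈ G)
    (hg0S : ¬ IsSimil B g0) : ∀ a b (h : B a b = 0), tv B a b h ∈ G := by
  obtain ⟨v, w, hvw, hne⟩ : ∃ v w, B v w = 0 ∧ B (g0 v) (g0 w) ≠ 0 := by
    by_contra hcon
    push Not at hcon
    exact hg0S (isSimil_of_preserves_ortho hA hN g0 hcon)
  let φ : Dual F V := (B.flip v) ∘ₗ ((g0⁻¹ : V ≃ₗ[F] V) : V →ₗ[F] V)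
  have hφ : ∀ x, φ x = B (g0⁻¹ x) v := fun x => rfl
  obtain ⟨b, hb⟩ := exists_repr hA hN φ
  have hab : B (g0 v) b = 0 := by rw [← hb, hφ, inv_apply_self', hA v]
  have ht : g0 * st B hA v 1 * g0⁻¹ = tv B (g0 v) b hab := by
    ext x
    simp only [LinearEquiv.mul_apply, st_apply, tv_apply, map_add, map_smul, apply_inv_self', one_mul,
      ← hb, hφ]
  have htG : tv B (g0 v) b hab ∈ G := by
    rw [← ht]; exact G.mul_mem (G.mul_mem hg0 (hG v 1)) (G.inv_mem hg0)
  have ha0 : g0 v ≠ 0 := by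
    intro h; rw [h] at hne; simp at hne
  have hv0 : v ≠ 0 := by
    intro h; rw [h] at ha0; simp at ha0
  have hba : b ∉ Submodule.span F {g0 v} := by
    intro hmem
    obtain ⟨r, rfl⟩ := Submodule.mem_span_singleton.1 hmem
    have h1 : φ (g0 w) = 0 := by rw [hφ, inv_apply_self', alt_swap hA, hvw, neg_zero]
    rw [hb, map_smul, smul_eq_mul, alt_swap hA, mul_neg, neg_eq_zero] at h1
    have hr : r = 0 := (mul_eq_zero.1 h1).resolve_right hne
    obtain ⟨y, hy⟩ := exists_ne_of_ne_zero hN hv0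
    apply hy
    have h2 := hb (g0 y)
    rw [hφ, inv_apply_self', hr, zero_smul, map_zero] at h2
    rw [alt_swap hA, h2, neg_zero]
  intro a' b' h'
  by_cases ha' : a' = 0
  · subst ha'
    rw [tv_eq_one_of_left]; exact G.one_mem
  by_cases hb' : b' ∈ Submodule.span F {a'}
  · obtain ⟨r, rfl⟩ := Submodule.mem_span_singleton.1 hb'
    rw [tv_smul_eq_st B hA]; exact hG _ _
  obtain ⟨t, htG', htI, hta, htb⟩ := exists_move_pair hA hN G hG (g0 v) b a' b' hab h' ha0 ha' hba hb'
  have := conj_tv htI (g0 v) b hab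
  have h3 : tv B a' b' h' = t * tv B (g0 v) b hab * t⁻¹ := by
    rw [this]
    congr 1 <;> simp [hta, htb]
  rw [h3]
  exact G.mul_mem (G.mul_mem htG' htG) (G.inv_mem htG')

theorem core_SL_transvection [FiniteDimensional F V] {B : BilinForm F V} (hA : B.IsAlt)
    (hN : B.Nondegenerate)
    (G : Subgroup (V ≃ₗ[F] V)) (hG : ∀ v c, st B hA v c ∈ G) (g0 : V ≃ₗ[F] V) (hg0 : g0 ∈ G)
    (hg0S : ¬ IsSimil B g0) (f : Dual F V) (v : V) (h : f v = 0) : LinearEquiv.transvection h ∈ G := by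
  obtain ⟨b, hb⟩ := exists_repr hA hN f
  have hvb : B v b = 0 := by rw [← hb, h]
  have : LinearEquiv.transvection h = tv B v b hvb := by
    ext x
    rw [tv_apply, LinearEquiv.transvection.apply, hb]
  rw [this]
  exact core_SL_tv hA hN G hG g0 hg0 hg0S v b hvb

/-- a non-symplectic transvection is not a similarity -/
lemma tv_not_isSimil [FiniteDimensional F V] {B : BilinForm F V} (hA : B.IsAlt) (hN : B.Nondegenerate)
    (a b : V) (hab : B a b = 0) (hb0 : b ≠ 0) (ha : a ∉ Submodule.span F {b}) :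
    ¬ IsSimil B (tv B a b hab) := by
  rintro ⟨c, -, hc⟩
  have ha0 : a ≠ 0 := by
    rintro rfl; exact ha (Submodule.zero_mem _)
  obtain ⟨y', hy'⟩ := exists_ne_of_ne_zero hN ha0
  have hc1 : c = 1 := by
    have := hc a y'
    simp only [tv_apply, hab, zero_smul, add_zero, map_add, map_smul, hA a, smul_eq_mul, mul_zero] at this
    exact (mul_right_cancel₀ hy' (by rw [one_mul]; exact this.symm))
  obtain ⟨x, hx, hax⟩ := exists_perp_ne hA hN _ ha
  have hxb : B x b = 0 := (mem_orth' hA).1 hx b (Submodule.mem_span_singleton_self b)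
  obtain ⟨y, hy⟩ := exists_ne_of_ne_zero hN hb0
  have := hc x y
  simp only [tv_apply, hxb, zero_smul, add_zero, map_add, map_smul, smul_eq_mul, hc1, one_mul] at this
  have h2 : B y b * B x a = 0 := by linear_combination this
  rcases mul_eq_zero.1 h2 with h3 | h3
  · apply hy; rw [alt_swap hA, h3, neg_zero]
  · apply hax; rw [alt_swap hA, h3, neg_zero]

lemma exists_ortho_indep [FiniteDimensional F V] {B : BilinForm F V} (hA : B.IsAlt) (hN : B.Nondegenerate)
    (hdim : 3 ≤ finrank F V) : ∃ a b : V, B a b = 0 ∧ b ≠ 0 ∧ a ∉ Submodule.span F {b} := by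
  have : Nontrivial V := Module.nontrivial_of_finrank_pos (R := F) (by omega)
  obtain ⟨b, hb⟩ := exists_ne (0 : V)
  by_contra hcon
  push Not at hcon
  have hle : B.orthogonal (Submodule.span F {b}) ≤ Submodule.span F {b} := by
    intro a ha
    exact hcon a b ((mem_orth' hA).1 ha b (Submodule.mem_span_singleton_self b)) hb
  have h1 := Submodule.finrank_mono hle
  rw [LinearMap.BilinForm.finrank_orthogonal hN, finrank_span_singleton hb] at h1
  omega

end Cfsg.Agent.Lib.Helper94
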