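import Mathlib
import Cfsg.Prelude.Def_GeometricClasses
import Cfsg.Agent.Lib.Helper94.Transfer
import Cfsg.Agent.Lib.Helper94.Symp
import Cfsg.Agent.Lib.Helper94.SympSL

set_option autoImplicit false

namespace Cfsg.Agent.Lib.Helper94

open LinearMap (BilinForm)
open Module Matrix

variable {ι : Type} [Fintype ι] [DecidableEq ι] {F : Type*} [Field F]

/-- a bilinear form given as a function, as a `BilinForm` -/
def formB (f : (ι → F) → (ι → F) → F) (hf : Cfsg.Geo.IsBilinearForm f) : BilinForm F (ι → F) :=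
  LinearMap.mk₂ F f hf.add_left hf.smul_left hf.add_right hf.smul_right

omit [Fintype ι] [DecidableEq ι] in
@[simp] lemma formB_apply (f : (ι → F) → (ι → F) → F) (hf : Cfsg.Geo.IsBilinearForm f) (u v : ι → F) :
    formB f hf u v = f u v := rfl

omit [Fintype ι] [DecidableEq ι] in
lemma formB_nondegenerate (f : (ι → F) → (ι → F) → F) (hf : Cfsg.Geo.IsBilinearForm f)
    (hN : Cfsg.Geo.IsNondegenerateForm f) : (formB f hf).Nondegenerate := by
  constructor
  · intro x hx
    by_contra hx0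
    obtain ⟨y, hy⟩ := (hN x hx0).2
    exact hy (hx y)
  · intro y hy
    by_contra hy0
    obtain ⟨x, hx⟩ := (hN y hy0).1
    exact hx (hy x)

lemma mem_similarityGroup_iff (f : (ι → F) → (ι → F) → F) (hf : Cfsg.Geo.IsBilinearForm f)
    (g : Matrix.GeneralLinearGroup ι F) :
    g ∈ Cfsg.Geo.similarityGroup f ↔ IsSimil (formB f hf) (glEquiv ι F g) := by
  constructor
  · rintro ⟨c, hc⟩
    refine ⟨c, c.ne_zero, fun u v => ?_⟩
    rw [formB_apply, formB_apply, glEquiv_apply, glEquiv_apply]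
    exact hc u v
  · rintro ⟨c, hc0, hc⟩
    refine ⟨Units.mk0 c hc0, fun u v => ?_⟩
    have := hc u v
    rw [formB_apply, formB_apply, glEquiv_apply, glEquiv_apply] at this
    exact this

lemma mem_specialLinear_iff (g : Matrix.GeneralLinearGroup ι F) :
    g ∈ Cfsg.Geo.specialLinear ι F ↔ (g : Matrix ι ι F).det = 1 := by
  unfold Cfsg.Geo.specialLinear
  rw [MonoidHom.mem_ker, Units.ext_iff]
  rfl

lemma tv_det {V : Type*} [AddCommGroup V] [Module F V] (B : BilinForm F V) (a b : V) (h : B a b = 0) :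
    LinearMap.det ((tv B a b h : V ≃ₗ[F] V) : V →ₗ[F] V) = 1 := by
  rw [← LinearEquiv.coe_det]
  unfold tv
  rw [LinearEquiv.transvection.det_eq_one]
  rfl

lemma symm_mem_specialLinear_iff (φ : (ι → F) ≃ₗ[F] (ι → F)) :
    (glEquiv ι F).symm φ ∈ Cfsg.Geo.specialLinear ι F ↔ LinearMap.det (φ : (ι → F) →ₗ[F] (ι → F)) = 1 := by
  rw [mem_specialLinear_iff, ← glEquiv_det, MulEquiv.apply_symm_apply]

end Cfsg.Agent.Lib.Helper94
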