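import Mathlib
import Cfsg.Agent.Lib.Helper94.SympF2
import Cfsg.Agent.Lib.Helper94.SLMax
import Cfsg.Agent.Lib.Helper94.FormB

set_option autoImplicit false
set_option linter.unusedSimpArgs false

/-! # Decomposition stabilisers in `SL_n(q)` that are not maximal -/

namespace Cfsg.Agent.Lib.Helper94

open Module

variable {F V : Type*} [Field F] [AddCommGroup V] [Module F V]

section cnt

variable {t : ℕ} (D : Fin t → Submodule F V)

open Classical in
/-- `1` if `v` has a non-zero component in `D i`, else `0` -/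
noncomputable def cmp1 (i : Fin t) (v : V) : F := if v ∈ ⨆ (j) (_ : j ≠ i), D j then 0 else 1

/-- the number of non-zero components, in `F` -/
noncomputable def cntQ (v : V) : F := ∑ i, cmp1 D i v

lemma decStab_mem_funStab_cnt {φ : V ≃ₗ[F] V} (hs : DecStab D φ) :
    φ ∈ funStab (F := F) (cntQ D) := by
  obtain ⟨s, hs⟩ := hs
  intro v
  unfold cntQ
  rw [← Equiv.sum_comp s]
  refine Finset.sum_congr rfl fun i _ => ?_
  unfold cmp1
  have hmap : (⨆ (j) (_ : j ≠ i), D j).map (φ : V →ₗ[F] V) = ⨆ (j) (_ : j ≠ s i), D j := by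
    simp only [Submodule.map_iSup, hs]
    apply le_antisymm
    · refine iSup₂_le fun j hj => ?_
      exact le_iSup₂_of_le (s j) (fun h => hj (s.injective h)) le_rfl
    · refine iSup₂_le fun j hj => ?_
      refine le_iSup₂_of_le (s.symm j) (fun h => hj (by rw [← h, Equiv.apply_symm_apply])) ?_
      rw [Equiv.apply_symm_apply]
  have : φ v ∈ (⨆ (j) (_ : j ≠ s i), D j) ↔ v ∈ ⨆ (j) (_ : j ≠ i), D j := by
    rw [← hmap]
    constructor
    · rintro ⟨w, hw, hwv⟩
      have : w = v := φ.injective hwv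
      exact this ▸ hw
    · intro h
      exact ⟨v, h, rfl⟩
  by_cases h : v ∈ ⨆ (j) (_ : j ≠ i), D j
  · rw [if_pos h, if_pos (this.2 h)]
  · rw [if_neg h, if_neg (fun h' => h (this.1 h'))]

variable {m : ℕ} (bs : Basis (Σ _ : Fin t, Fin m) F V) (hmem : ∀ a, bs a ∈ D a.1)
  (hspan : ∀ j, ∀ w ∈ D j, ∃ c : Fin m → F, w = ∑ k, c k • bs ⟨j, k⟩)

include hspan in
lemma coord_eq_zero_of_mem {i j : Fin t} (hij : j ≠ i) {w : V} (hw : w ∈ D j) (k : Fin m) :
    bs.coord ⟨i, k⟩ w = 0 := by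
  obtain ⟨c, rfl⟩ := hspan j w hw
  rw [map_sum]
  refine Finset.sum_eq_zero fun k' _ => ?_
  rw [map_smul, Basis.coord_apply, Basis.repr_self, Finsupp.single_apply, if_neg, smul_zero]
  intro h
  exact hij (congrArg Sigma.fst h)

include hmem hspan in
lemma mem_compl_iff (i : Fin t) (v : V) :
    v ∈ (⨆ (j) (_ : j ≠ i), D j) ↔ ∀ k, bs.coord ⟨i, k⟩ v = 0 := by
  constructor
  · intro hv k
    have hle : (⨆ (j) (_ : j ≠ i), D j) ≤ LinearMap.ker (bs.coord ⟨i, k⟩) := by
      refine iSup₂_le fun j hj w hw => ?_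
      exact coord_eq_zero_of_mem D bs hspan hj hw k
    exact hle hv
  · intro h
    rw [← bs.sum_repr v]
    refine Submodule.sum_mem _ fun a _ => ?_
    by_cases ha : a.1 = i
    · obtain ⟨j, k⟩ := a
      obtain rfl : j = i := ha
      have := h k
      rw [Basis.coord_apply] at this
      rw [this, zero_smul]
      exact Submodule.zero_mem _
    · exact Submodule.smul_mem _ _ ((le_iSup₂_of_le a.1 ha le_rfl : D a.1 ≤ _) (hmem a))

open Classical in
include hmem hspan in
lemma cmp1_eq (i : Fin t) (v : V) :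
    cmp1 D i v = if ∀ k, bs.coord ⟨i, k⟩ v = 0 then 0 else 1 := by
  unfold cmp1
  simp only [mem_compl_iff D bs hmem hspan]

lemma cntQ_eq_of (I : Finset (Fin t)) (v w : V) (hout : ∀ i ∉ I, cmp1 D i w = cmp1 D i v)
    (hin : ∑ i ∈ I, cmp1 D i w = ∑ i ∈ I, cmp1 D i v) : cntQ D w = cntQ D v := by
  classical
  unfold cntQ
  rw [← Finset.sum_add_sum_compl I, ← Finset.sum_add_sum_compl I (fun i => cmp1 D i v), hin]
  congr 1
  refine Finset.sum_congr rfl fun i hi => hout i ?_
  simpa using hi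

include hmem hspan in
lemma exists_not_cnt [FiniteDimensional F V] (i0 i1 : Fin t) (h01 : i0 ≠ i1) (k0 : Fin m) :
    ∃ φ : V ≃ₗ[F] V, LinearMap.det (φ : V →ₗ[F] V) = 1 ∧ φ ∉ funStab (F := F) (cntQ D) := by
  classical
  have hψ : bs.coord ⟨i0, k0⟩ (bs ⟨i1, k0⟩) = 0 := by
    rw [Basis.coord_apply, Basis.repr_self, Finsupp.single_apply, if_neg]
    intro h
    exact h01 (congrArg Sigma.fst h).symm
  refine ⟨tr (bs.coord ⟨i0, k0⟩) (bs ⟨i1, k0⟩) hψ, tr_det _ _ _, fun hmemφ => ?_⟩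
  have h := hmemφ (bs ⟨i0, k0⟩)
  rw [tr_apply] at h
  have h1 : bs.coord ⟨i0, k0⟩ (bs ⟨i0, k0⟩) = 1 := by
    rw [Basis.coord_apply, Basis.repr_self, Finsupp.single_apply, if_pos rfl]
  rw [h1, one_smul] at h
  have e1 : cntQ D (bs ⟨i0, k0⟩) = 1 := by
    unfold cntQ
    rw [Finset.sum_eq_single i0]
    · rw [cmp1_eq D bs hmem hspan, if_neg]
      intro hk
      rw [hk k0] at h1
      exact zero_ne_one h1
    · intro i _ hi
      rw [cmp1_eq D bs hmem hspan, if_pos]
      intro k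
      exact coord_eq_zero_of_mem D bs hspan (Ne.symm hi) (hmem ⟨i0, k0⟩) k
    · intro h; exact absurd (Finset.mem_univ _) h
  have e2 : cntQ D (bs ⟨i0, k0⟩ + bs ⟨i1, k0⟩) = 1 + 1 := by
    unfold cntQ
    have : ∀ i, cmp1 D i (bs ⟨i0, k0⟩ + bs ⟨i1, k0⟩)
        = (if i = i0 then 1 else 0) + (if i = i1 then 1 else 0) := by
      intro i
      rw [cmp1_eq D bs hmem hspan]
      by_cases hi0 : i = i0
      · subst hi0
        rw [if_neg, if_pos rfl, if_neg h01, add_zero]
        intro hk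
        have := hk k0
        rw [map_add, h1, hψ, add_zero] at this
        exact one_ne_zero this
      · by_cases hi1 : i = i1
        · subst hi1
          rw [if_neg, if_neg hi0, if_pos rfl, zero_add]
          intro hk
          have := hk k0
          rw [map_add, coord_eq_zero_of_mem D bs hspan (Ne.symm hi0) (hmem ⟨i0, k0⟩) k0, zero_add,
            Basis.coord_apply, Basis.repr_self, Finsupp.single_apply, if_pos rfl] at this
          exact one_ne_zero this
        · rw [if_pos, if_neg hi0, if_neg hi1, add_zero]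
          intro k
          rw [map_add, coord_eq_zero_of_mem D bs hspan (Ne.symm hi0) (hmem ⟨i0, k0⟩) k,
            coord_eq_zero_of_mem D bs hspan (Ne.symm hi1) (hmem ⟨i1, k0⟩) k, add_zero]
    simp only [this, Finset.sum_add_distrib, Finset.sum_ite_eq', Finset.mem_univ, if_true]
  rw [e1, e2] at h
  have : (1 : F) = 0 := by linear_combination h
  exact one_ne_zero this

end cnt

section one

variable {t : ℕ} (D : Fin t → Submodule F V)
variable (bs : Basis (Σ _ : Fin t, Fin 1) F V) (hmem : ∀ a, bs a ∈ D a.1)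
  (hspan : ∀ j, ∀ w ∈ D j, ∃ c : Fin 1 → F, w = ∑ k, c k • bs ⟨j, k⟩)

lemma coord_self_ite {m : ℕ} (bs : Basis (Σ _ : Fin t, Fin m) F V) (a b : Σ _ : Fin t, Fin m) :
    bs.coord a (bs b) = if b = a then 1 else 0 := by
  classical
  rw [Basis.coord_apply, Basis.repr_self, Finsupp.single_apply]

include hmem hspan in
lemma cmp1_one [Fintype F] (i : Fin t) (v : V) :
    cmp1 D i v = (bs.coord ⟨i, 0⟩ v) ^ (Fintype.card F - 1) := by
  classical
  rw [cmp1_eq D bs hmem hspan]
  have hq : 1 < Fintype.card F := Fintype.one_lt_card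
  by_cases h : bs.coord ⟨i, 0⟩ v = 0
  · rw [if_pos, h, zero_pow (by omega)]
    intro k
    obtain rfl : k = 0 := Subsingleton.elim _ _
    exact h
  · rw [if_neg (fun hk => h (hk 0)), FiniteField.pow_card_sub_one_eq_one _ h]

/-- the functional `∑_{i ∈ I} x_i` -/
noncomputable def lamI (I : Finset (Fin t)) : Dual F V := ∑ i ∈ I, bs.coord ⟨i, 0⟩

/-- the vector `∑_{i ∈ I} d_i` -/
noncomputable def vecI (I : Finset (Fin t)) : V := ∑ i ∈ I, bs ⟨i, 0⟩

lemma coord_vecI (I : Finset (Fin t)) (i : Fin t) :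
    bs.coord ⟨i, 0⟩ (vecI bs I) = if i ∈ I then 1 else 0 := by
  classical
  unfold vecI
  rw [map_sum]
  simp only [coord_self_ite, Sigma.mk.injEq, heq_eq_eq, and_true]
  rw [Finset.sum_ite_eq']

lemma lamI_vecI (I : Finset (Fin t)) : lamI bs I (vecI bs I) = (I.card : F) := by
  classical
  unfold lamI
  rw [LinearMap.sum_apply]
  simp only [coord_vecI]
  rw [Finset.sum_ite_mem, Finset.inter_self, Finset.sum_const, nsmul_eq_mul, mul_one]

lemma lamI_vecI_disj {I J : Finset (Fin t)} (h : Disjoint I J) : lamI bs I (vecI bs J) = 0 := by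
  classical
  unfold lamI
  rw [LinearMap.sum_apply]
  refine Finset.sum_eq_zero fun i hi => ?_
  rw [coord_vecI, if_neg (Finset.disjoint_left.1 h hi)]

/-- `v ↦ v + (∑_{i ∈ I} x_i v) ∑_{i ∈ I} d_i` -/
noncomputable def reflI (I : Finset (Fin t)) (h : IsUnit (1 + lamI bs I (vecI bs I))) : V ≃ₗ[F] V :=
  LinearEquiv.dilatransvection h

lemma reflI_apply (I : Finset (Fin t)) (h : IsUnit (1 + lamI bs I (vecI bs I))) (v : V) :
    reflI bs I h v = v + lamI bs I v • vecI bs I := by
  unfold reflI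
  rw [LinearEquiv.dilatransvection.apply]

lemma reflI_det [FiniteDimensional F V] (I : Finset (Fin t)) (h : IsUnit (1 + lamI bs I (vecI bs I))) :
    LinearMap.det ((reflI bs I h : V ≃ₗ[F] V) : V →ₗ[F] V) = 1 + (I.card : F) := by
  unfold reflI
  rw [LinearEquiv.dilatransvection.coe_toLinearMap, LinearMap.transvection.det, lamI_vecI]

lemma four_pow_identity {e : ℕ} (h : (e = 1 ∧ (2 : F) = 0) ∨ (e = 2 ∧ (3 : F) = 0) ∨ (e = 3 ∧ (2 : F) = 0))
    (a b c d : F) :
    (a + (a + b + c + d)) ^ e + (b + (a + b + c + d)) ^ e + (c + (a + b + c + d)) ^ e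
      + (d + (a + b + c + d)) ^ e = a ^ e + b ^ e + c ^ e + d ^ e := by
  rcases h with ⟨rfl, h⟩ | ⟨rfl, h⟩ | ⟨rfl, h⟩
  · linear_combination (2 * (a + b + c + d)) * h
  · linear_combination (2 * (a + b + c + d) ^ 2) * h
  · linear_combination (3 * (a + b + c + d) * (a ^ 2 + b ^ 2 + c ^ 2 + d ^ 2 + a * b + a * c + a * d
      + b * c + b * d + c * d) + 2 * (a + b + c + d) ^ 3) * h

include hmem hspan in
lemma reflI_mem [Fintype F]
    (hq : (Fintype.card F - 1 = 1 ∧ (2 : F) = 0) ∨ (Fintype.card F - 1 = 2 ∧ (3 : F) = 0) ∨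
      (Fintype.card F - 1 = 3 ∧ (2 : F) = 0))
    (i0 i1 i2 i3 : Fin t) (h01 : i0 ≠ i1) (h02 : i0 ≠ i2) (h03 : i0 ≠ i3) (h12 : i1 ≠ i2)
    (h13 : i1 ≠ i3) (h23 : i2 ≠ i3)
    (h : IsUnit (1 + lamI bs {i0, i1, i2, i3} (vecI bs {i0, i1, i2, i3}))) :
    reflI bs {i0, i1, i2, i3} h ∈ funStab (F := F) (cntQ D) := by
  classical
  intro v
  have hc : ∀ i, bs.coord ⟨i, 0⟩ (reflI bs {i0, i1, i2, i3} h v)
      = bs.coord ⟨i, 0⟩ v + lamI bs {i0, i1, i2, i3} v * (if i ∈ ({i0, i1, i2, i3} : Finset (Fin t)) then 1 else 0) := by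
    intro i
    rw [reflI_apply, map_add, map_smul, coord_vecI, smul_eq_mul]
  apply cntQ_eq_of D {i0, i1, i2, i3}
  · intro i hi
    rw [cmp1_one D bs hmem hspan, cmp1_one D bs hmem hspan, hc, if_neg hi, mul_zero, add_zero]
  · simp only [cmp1_one D bs hmem hspan, hc]
    have hl : lamI bs {i0, i1, i2, i3} v = bs.coord ⟨i0, 0⟩ v + bs.coord ⟨i1, 0⟩ v
        + bs.coord ⟨i2, 0⟩ v + bs.coord ⟨i3, 0⟩ v := by
      unfold lamI
      rw [LinearMap.sum_apply, Finset.sum_insert (by simp [h01, h02, h03]),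
        Finset.sum_insert (by simp [h12, h13]), Finset.sum_insert (by simp [h23]),
        Finset.sum_singleton]
      ring
    rw [Finset.sum_insert (by simp [h01, h02, h03]),
        Finset.sum_insert (by simp [h12, h13]), Finset.sum_insert (by simp [h23]),
        Finset.sum_singleton, Finset.sum_insert (by simp [h01, h02, h03]),
        Finset.sum_insert (by simp [h12, h13]), Finset.sum_insert (by simp [h23]),
        Finset.sum_singleton, hl]
    simp only [Finset.mem_insert, Finset.mem_singleton, true_or, or_true, if_true, mul_one]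
    have := four_pow_identity hq (bs.coord ⟨i0, 0⟩ v) (bs.coord ⟨i1, 0⟩ v) (bs.coord ⟨i2, 0⟩ v)
      (bs.coord ⟨i3, 0⟩ v)
    linear_combination this

include hmem hspan in
lemma exists_cnt_not_decStab_one [Fintype F] [FiniteDimensional F V]
    (hq : (Fintype.card F - 1 = 1 ∧ (2 : F) = 0) ∨ (Fintype.card F - 1 = 2 ∧ (3 : F) = 0) ∨
      (Fintype.card F - 1 = 3 ∧ (2 : F) = 0))
    (ix : Fin 8 → Fin t) (hix : Function.Injective ix) :
    ∃ φ : V ≃ₗ[F] V, LinearMap.det (φ : V →ₗ[F] V) = 1 ∧ φ ∈ funStab (F := F) (cntQ D) ∧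
      ¬ DecStab D φ := by
  classical
  have hne : ∀ a b : Fin 8, a ≠ b → ix a ≠ ix b := fun a b h h' => h (hix h')
  have h24 : (24 : F) = 0 := by
    rcases hq with ⟨-, h⟩ | ⟨-, h⟩ | ⟨-, h⟩
    · linear_combination 12 * h
    · linear_combination 8 * h
    · linear_combination 12 * h
  have h5 : (5 : F) ≠ 0 := by
    intro h5
    have : (1 : F) = 0 := by linear_combination 5 * h5 - h24
    exact one_ne_zero this
  have hcI : ({ix 0, ix 1, ix 2, ix 3} : Finset (Fin t)).card = 4 := by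
    rw [Finset.card_insert_of_notMem (by simp [hne 0 1 (by decide), hne 0 2 (by decide), hne 0 3 (by decide)]),
      Finset.card_insert_of_notMem (by simp [hne 1 2 (by decide), hne 1 3 (by decide)]),
      Finset.card_insert_of_notMem (by simp [hne 2 3 (by decide)]), Finset.card_singleton]
  have hcJ : ({ix 4, ix 5, ix 6, ix 7} : Finset (Fin t)).card = 4 := by
    rw [Finset.card_insert_of_notMem (by simp [hne 4 5 (by decide), hne 4 6 (by decide), hne 4 7 (by decide)]),
      Finset.card_insert_of_notMem (by simp [hne 5 6 (by decide), hne 5 7 (by decide)]),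
      Finset.card_insert_of_notMem (by simp [hne 6 7 (by decide)]), Finset.card_singleton]
  have hI : IsUnit (1 + lamI bs {ix 0, ix 1, ix 2, ix 3} (vecI bs {ix 0, ix 1, ix 2, ix 3})) := by
    rw [lamI_vecI, hcI]
    apply IsUnit.mk0
    intro h; apply h5; push_cast at h; linear_combination h
  have hJ : IsUnit (1 + lamI bs {ix 4, ix 5, ix 6, ix 7} (vecI bs {ix 4, ix 5, ix 6, ix 7})) := by
    rw [lamI_vecI, hcJ]
    apply IsUnit.mk0
    intro h; apply h5; push_cast at h; linear_combination h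
  refine ⟨reflI bs _ hI * reflI bs _ hJ, ?_, ?_, ?_⟩
  · have hdm : LinearMap.det ((reflI bs _ hI * reflI bs _ hJ : V ≃ₗ[F] V) : V →ₗ[F] V)
        = LinearMap.det ((reflI bs _ hI : V ≃ₗ[F] V) : V →ₗ[F] V)
          * LinearMap.det ((reflI bs _ hJ : V ≃ₗ[F] V) : V →ₗ[F] V) := by
      rw [← map_mul]; rfl
    rw [hdm, reflI_det, reflI_det, hcI, hcJ]
    push_cast
    linear_combination h24
  · exact (funStab (F := F) (cntQ D)).mul_mem
      (reflI_mem D bs hmem hspan hq _ _ _ _ (hne 0 1 (by decide)) (hne 0 2 (by decide))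
        (hne 0 3 (by decide)) (hne 1 2 (by decide)) (hne 1 3 (by decide)) (hne 2 3 (by decide)) hI)
      (reflI_mem D bs hmem hspan hq _ _ _ _ (hne 4 5 (by decide)) (hne 4 6 (by decide))
        (hne 4 7 (by decide)) (hne 5 6 (by decide)) (hne 5 7 (by decide)) (hne 6 7 (by decide)) hJ)
  · rintro ⟨σ, hσ⟩
    have hw : (reflI bs _ hI * reflI bs _ hJ) (bs ⟨ix 0, 0⟩) ∈ D (σ (ix 0)) := by
      rw [← hσ]
      exact Submodule.mem_map_of_mem (hmem ⟨ix 0, 0⟩)
    have hl0 : lamI bs {ix 4, ix 5, ix 6, ix 7} (bs ⟨ix 0, 0⟩) = 0 := by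
      unfold lamI
      rw [LinearMap.sum_apply]
      refine Finset.sum_eq_zero fun i hi => ?_
      rw [coord_self_ite, if_neg]
      intro h
      have h' : ix 0 = i := congrArg Sigma.fst h
      rw [← h'] at hi
      simp [hne 0 4 (by decide), hne 0 5 (by decide), hne 0 6 (by decide), hne 0 7 (by decide)] at hi
    have hl1 : lamI bs {ix 0, ix 1, ix 2, ix 3} (bs ⟨ix 0, 0⟩) = 1 := by
      unfold lamI
      rw [LinearMap.sum_apply, Finset.sum_eq_single (ix 0)]
      · rw [coord_self_ite, if_pos rfl]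
      · intro i _ hi
        rw [coord_self_ite, if_neg]
        intro h
        exact hi (congrArg Sigma.fst h).symm
      · intro h; simp at h
    rw [LinearEquiv.mul_apply, reflI_apply bs _ hJ, hl0, zero_smul, add_zero, reflI_apply, hl1, one_smul] at hw
    have key : ∀ i ∈ ({ix 1, ix 2} : Finset (Fin t)), σ (ix 0) = i := by
      intro i hi
      by_contra hcon
      have h0 := coord_eq_zero_of_mem D bs hspan hcon hw 0
      rw [map_add, coord_vecI, coord_self_ite, if_neg, if_pos, zero_add] at h0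
      · exact one_ne_zero h0
      · simp only [Finset.mem_insert, Finset.mem_singleton] at hi ⊢
        rcases hi with rfl | rfl <;> simp
      · intro h
        have h' : ix 0 = i := congrArg Sigma.fst h
        simp only [Finset.mem_insert, Finset.mem_singleton] at hi
        rcases hi with rfl | rfl
        · exact hne 0 1 (by decide) h'
        · exact hne 0 2 (by decide) h'
    exact hne 1 2 (by decide) ((key (ix 1) (by simp)).symm.trans (key (ix 2) (by simp)))

end one

section two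

variable {t : ℕ} (D : Fin t → Submodule F V)
variable (bs : Basis (Σ _ : Fin t, Fin 2) F V) (hmem : ∀ a, bs a ∈ D a.1)
  (hspan : ∀ j, ∀ w ∈ D j, ∃ c : Fin 2 → F, w = ∑ k, c k • bs ⟨j, k⟩)
  (h2 : ∀ x : F, x = 0 ∨ x = 1)

include hmem hspan h2 in
lemma cmp1_two (i : Fin t) (v : V) :
    cmp1 D i v = bs.coord ⟨i, 0⟩ v + bs.coord ⟨i, 0⟩ v * bs.coord ⟨i, 1⟩ v + bs.coord ⟨i, 1⟩ v := by
  classical
  rw [cmp1_eq D bs hmem hspan]
  have h11 := f2_two h2 1
  split_ifs with h
  · rw [h 0, h 1]; ring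
  · have hne : ¬ (bs.coord ⟨i, 0⟩ v = 0 ∧ bs.coord ⟨i, 1⟩ v = 0) := by
      rintro ⟨h1, h3⟩
      apply h
      intro k
      fin_cases k
      · exact h1
      · exact h3
    rcases h2 (bs.coord ⟨i, 0⟩ v) with h1 | h1 <;> rcases h2 (bs.coord ⟨i, 1⟩ v) with h3 | h3
    · exact absurd ⟨h1, h3⟩ hne
    · rw [h1, h3]; ring
    · rw [h1, h3]; ring
    · rw [h1, h3]; linear_combination -h11

include hmem hspan h2 in
lemma exists_cnt_not_decStab_two [FiniteDimensional F V]
    (i0 i1 i2 : Fin t) (h01 : i0 ≠ i1) (h02 : i0 ≠ i2) (h12 : i1 ≠ i2) :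
    ∃ φ : V ≃ₗ[F] V, LinearMap.det (φ : V →ₗ[F] V) = 1 ∧ φ ∈ funStab (F := F) (cntQ D) ∧
      ¬ DecStab D φ := by
  classical
  set ψ : Dual F V := bs.coord ⟨i0, 1⟩ + bs.coord ⟨i1, 1⟩ + bs.coord ⟨i2, 1⟩ with hψ
  set c : V := bs ⟨i0, 0⟩ + bs ⟨i1, 0⟩ + bs ⟨i2, 0⟩ with hc
  have h10 : (1 : Fin 2) ≠ 0 := by decide
  have hy : ∀ i, bs.coord ⟨i, 1⟩ c = 0 := by
    intro i
    simp only [hc, map_add, coord_self_ite, Sigma.mk.injEq, heq_eq_eq, h10.symm, and_false, if_false,
      add_zero]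
  have hx : ∀ i, bs.coord ⟨i, 0⟩ c = if i ∈ ({i0, i1, i2} : Finset (Fin t)) then 1 else 0 := by
    intro i
    simp only [hc, map_add, coord_self_ite, Sigma.mk.injEq, heq_eq_eq, and_true, Finset.mem_insert,
      Finset.mem_singleton]
    by_cases e0 : i = i0
    · subst e0; simp [h01, h02, h01.symm, h02.symm]
    · by_cases e1 : i = i1
      · subst e1; simp [h01, h12, h01.symm, h12.symm]
      · by_cases e2 : i = i2
        · subst e2; simp [h02, h12, h02.symm, h12.symm]
        · simp [e0, e1, e2, Ne.symm e0, Ne.symm e1, Ne.symm e2]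
  have hψc : ψ c = 0 := by
    simp only [hψ, LinearMap.add_apply, hy, add_zero]
  refine ⟨tr ψ c hψc, tr_det _ _ _, ?_, ?_⟩
  · intro v
    have hcx : ∀ i, bs.coord ⟨i, 0⟩ (tr ψ c hψc v)
        = bs.coord ⟨i, 0⟩ v + ψ v * (if i ∈ ({i0, i1, i2} : Finset (Fin t)) then 1 else 0) := by
      intro i
      rw [tr_apply, map_add, map_smul, hx, smul_eq_mul]
    have hcy : ∀ i, bs.coord ⟨i, 1⟩ (tr ψ c hψc v) = bs.coord ⟨i, 1⟩ v := by
      intro i
      rw [tr_apply, map_add, map_smul, hy, smul_zero, add_zero]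
    apply cntQ_eq_of D {i0, i1, i2}
    · intro i hi
      rw [cmp1_two D bs hmem hspan h2, cmp1_two D bs hmem hspan h2, hcx, hcy, if_neg hi, mul_zero,
        add_zero]
    · simp only [cmp1_two D bs hmem hspan h2, hcx, hcy]
      rw [Finset.sum_insert (by simp [h01, h02]), Finset.sum_insert (by simp [h12]),
        Finset.sum_singleton, Finset.sum_insert (by simp [h01, h02]),
        Finset.sum_insert (by simp [h12]), Finset.sum_singleton]
      simp only [Finset.mem_insert, Finset.mem_singleton, true_or, or_true, if_true, mul_one]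
      have hl : ψ v = bs.coord ⟨i0, 1⟩ v + bs.coord ⟨i1, 1⟩ v + bs.coord ⟨i2, 1⟩ v := by
        simp only [hψ, LinearMap.add_apply]
      have h11 := f2_two h2 1
      have hsq : ψ v * ψ v = ψ v := by
        rcases h2 (ψ v) with h | h <;> rw [h] <;> ring
      linear_combination (2 * ψ v) * h11 + hsq + (ψ v) * (-1 : F) * hl
  · rintro ⟨σ, hσ⟩
    have hw : tr ψ c hψc (bs ⟨i0, 1⟩) ∈ D (σ i0) := by
      rw [← hσ]
      exact Submodule.mem_map_of_mem (hmem ⟨i0, 1⟩)
    have hl1 : ψ (bs ⟨i0, 1⟩) = 1 := by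
      simp only [hψ, LinearMap.add_apply, coord_self_ite, Sigma.mk.injEq, heq_eq_eq, and_true, h01,
        h02, if_false, if_true, add_zero]
    rw [tr_apply, hl1, one_smul] at hw
    have key : ∀ i ∈ ({i1, i2} : Finset (Fin t)), σ i0 = i := by
      intro i hi
      by_contra hcon
      have h0 := coord_eq_zero_of_mem D bs hspan hcon hw 0
      rw [map_add, hx, coord_self_ite, if_neg, if_pos, zero_add] at h0
      · exact one_ne_zero h0
      · simp only [Finset.mem_insert, Finset.mem_singleton] at hi ⊢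
        rcases hi with rfl | rfl <;> simp
      · intro h
        simp only [Sigma.mk.injEq, heq_eq_eq] at h
        exact h10 h.2
    exact h12 ((key i1 (by simp)).symm.trans (key i2 (by simp)))

end two

section basis

variable {t : ℕ} (D : Fin t → Submodule F V)

lemma exists_adapted_basis [FiniteDimensional F V] {m : ℕ} (hfr : ∀ i, finrank F (D i) = m)
    (hind : iSupIndep D) (htop : iSup D = ⊤) :
    ∃ bs : Basis (Σ _ : Fin t, Fin m) F V, (∀ a, bs a ∈ D a.1) ∧
      ∀ j, ∀ w ∈ D j, ∃ c : Fin m → F, w = ∑ k, c k • bs ⟨j, k⟩ := by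
  classical
  have hint : DirectSum.IsInternal D :=
    (DirectSum.isInternal_submodule_iff_iSupIndep_and_iSup_eq_top D).2 ⟨hind, htop⟩
  refine ⟨hint.collectedBasis (fun i => Module.finBasisOfFinrankEq F (D i) (hfr i)),
    fun a => hint.collectedBasis_mem _ a, fun j w hw => ?_⟩
  refine ⟨fun k => (Module.finBasisOfFinrankEq F (D j) (hfr j)).repr ⟨w, hw⟩ k, ?_⟩
  have := (Module.finBasisOfFinrankEq F (D j) (hfr j)).sum_repr ⟨w, hw⟩
  have h2 := congrArg Subtype.val this
  simp only [DirectSum.IsInternal.collectedBasis_coe]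
  rw [Submodule.coe_sum] at h2
  simp only [Submodule.coe_smul] at h2
  exact h2.symm

lemma card_mul_eq [FiniteDimensional F V] {m : ℕ} (bs : Basis (Σ _ : Fin t, Fin m) F V) :
    finrank F V = t * m := by
  rw [Module.finrank_eq_card_basis bs]
  simp

end basis

theorem sl_between {F : Type*} [Field F] (n : ℕ) (S : Subgroup (Matrix.GeneralLinearGroup (Fin n) F))
    (stab : ((Fin n → F) ≃ₗ[F] (Fin n → F)) → Prop)
    (hS : ∀ g, g ∈ S ↔ stab (glEquiv _ F g))
    (M : Subgroup ((Fin n → F) ≃ₗ[F] (Fin n → F)))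
    (h1 : ∀ φ : (Fin n → F) ≃ₗ[F] (Fin n → F), stab φ → φ ∈ M)
    (h2 : ∃ φ : (Fin n → F) ≃ₗ[F] (Fin n → F),
      LinearMap.det (φ : (Fin n → F) →ₗ[F] (Fin n → F)) = 1 ∧ φ ∈ M ∧ ¬ stab φ)
    (h3 : ∃ φ : (Fin n → F) ≃ₗ[F] (Fin n → F),
      LinearMap.det (φ : (Fin n → F) →ₗ[F] (Fin n → F)) = 1 ∧ φ ∉ M) :
    ∃ K : Subgroup (Matrix.GeneralLinearGroup (Fin n) F),
      S ⊓ Cfsg.Geo.specialLinear (Fin n) F < K ∧ K < Cfsg.Geo.specialLinear (Fin n) F := by
  refine ⟨M.comap (glEquiv _ F).toMonoidHom ⊓ Cfsg.Geo.specialLinear (Fin n) F, ?_, ?_⟩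
  · refine lt_of_le_of_ne ?_ ?_
    · intro g hg
      exact ⟨h1 _ ((hS g).1 hg.1), hg.2⟩
    · intro heq
      obtain ⟨φ, hI, hM, hns⟩ := h2
      have hmem : (glEquiv _ F).symm φ ∈ M.comap (glEquiv _ F).toMonoidHom ⊓ Cfsg.Geo.specialLinear (Fin n) F := by
        refine Subgroup.mem_inf.2 ⟨?_, ?_⟩
        · change glEquiv _ F ((glEquiv _ F).symm φ) ∈ M
          rw [MulEquiv.apply_symm_apply]; exact hM
        · rw [symm_mem_specialLinear_iff]; exact hI
      rw [← heq] at hmem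
      have := (hS _).1 hmem.1
      rw [MulEquiv.apply_symm_apply] at this
      exact hns this
  · refine lt_of_le_of_ne inf_le_right ?_
    intro heq
    obtain ⟨φ, hI, hM⟩ := h3
    have hmem : (glEquiv _ F).symm φ ∈ Cfsg.Geo.specialLinear (Fin n) F := by
      rw [symm_mem_specialLinear_iff]; exact hI
    rw [← heq] at hmem
    have : glEquiv _ F ((glEquiv _ F).symm φ) ∈ M := hmem.1
    rw [MulEquiv.apply_symm_apply] at this
    exact hM this

end Cfsg.Agent.Lib.Helper94
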